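import Mathlib.FieldTheory.IsAlgClosed.Basic
import Mathlib.Algebra.Polynomial.Derivative
import Mathlib.Algebra.CharP.Lemmas
import Mathlib.LinearAlgebra.FiniteDimensional.Basic
import Mathlib.Algebra.Polynomial.AlgebraMap
import Mathlib.LinearAlgebra.Finsupp.LinearCombination

/-!
In a finite algebra over an algebraically closed field of characteristic `p`, the span of the
`p`-power iterates of an element contains a nonzero `z` with `z^p = 0` or `z^p = z`.
-/

universe u w

open Polynomial

namespace GrothLib.OrderP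

variable {k : Type u} [Field k] [IsAlgClosed k] (p : ℕ) [hp : Fact p.Prime] [CharP k p]

noncomputable def zpol (c : ℕ → k) : ℕ → k[X]
  | 0 => C (c 0) * X ^ p
  | i + 1 => zpol c i ^ p + C (c (i + 1)) * X ^ p

theorem natDegree_zpol (c : ℕ → k) (h0 : c 0 ≠ 0) : ∀ i, (zpol p c i).natDegree = p ^ (i + 1)
  | 0 => by rw [zpol, natDegree_C_mul_X_pow p (c 0) h0, pow_one]
  | i + 1 => by
    rw [zpol, natDegree_add_eq_left_of_natDegree_lt, natDegree_pow, natDegree_zpol c h0 i, ← pow_succ']
    rw [natDegree_pow, natDegree_zpol c h0 i]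
    refine lt_of_le_of_lt (natDegree_C_mul_X_pow_le _ _) ?_
    exact lt_mul_of_one_lt_right hp.out.pos (Nat.one_lt_pow (Nat.succ_ne_zero i) hp.out.one_lt)

theorem derivative_zpol (c : ℕ → k) : ∀ i, derivative (zpol p c i) = 0
  | 0 => by simp [zpol, derivative_X_pow]
  | i + 1 => by simp [zpol, derivative_X_pow, derivative_pow]

theorem eval_zero_zpol (c : ℕ → k) : ∀ i, (zpol p c i).eval 0 = 0
  | 0 => by simp [zpol, hp.out.ne_zero]
  | i + 1 => by simp [zpol, eval_zero_zpol c i, hp.out.ne_zero]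

/-- the root giving a fixed vector -/
theorem exists_root (c : ℕ → k) (h0 : c 0 ≠ 0) (m : ℕ) :
    ∃ t : k, t ≠ 0 ∧ (zpol p c m).eval t = t := by
  let F := zpol p c m - X
  obtain ⟨G, hG⟩ : X ∣ F := by
    rw [X_dvd_iff, coeff_zero_eq_eval_zero]
    simp [F, eval_zero_zpol p c m]
  have hG0 : G.coeff 0 = -1 := by
    have h1 := congrArg (fun q => (derivative q).eval 0) hG
    simp [F, derivative_zpol p c m] at h1
    rw [coeff_zero_eq_eval_zero, ← h1]
  have hdeg : 0 < G.natDegree := by
    have hF : F.natDegree = p ^ (m + 1) := by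
      rw [natDegree_sub_eq_left_of_natDegree_lt, natDegree_zpol p c h0 m]
      rw [natDegree_X, natDegree_zpol p c h0 m]
      exact Nat.one_lt_pow (Nat.succ_ne_zero m) hp.out.one_lt
    have hGne : G ≠ 0 := fun h => by simp [h] at hG0
    rw [hG, natDegree_X_mul hGne] at hF
    have : 1 < p ^ (m + 1) := Nat.one_lt_pow (Nat.succ_ne_zero m) hp.out.one_lt
    omega
  obtain ⟨t, ht⟩ := IsAlgClosed.exists_root G (by rw [degree_eq_natDegree (fun h => by simp [h] at hdeg)]; exact_mod_cast hdeg.ne')
  refine ⟨t, fun h => ?_, ?_⟩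
  · rw [h, IsRoot.def, ← coeff_zero_eq_eval_zero, hG0] at ht
    simp at ht
  · have h2 := congrArg (eval t) hG
    rw [eval_mul, ht.eq_zero, mul_zero] at h2
    simpa [F, sub_eq_zero] using h2

variable {E : Type w} [Ring E] [Algebra k E] [Module.Finite k E]

theorem sum_pow_prime_powers (y : E) {n : ℕ} (c : Fin n → k) :
    (∑ i, c i • y ^ p ^ (i : ℕ)) ^ p = ∑ i, c i ^ p • y ^ p ^ ((i : ℕ) + 1) := by
  haveI : ExpChar k[X] p := ExpChar.prime hp.out
  have h : aeval y ((∑ i, c i • (X : k[X]) ^ p ^ (i : ℕ)) ^ p) =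
      aeval y (∑ i, c i ^ p • (X : k[X]) ^ p ^ ((i : ℕ) + 1)) := by
    rw [sum_pow_char]
    simp only [smul_pow, ← pow_mul, ← pow_succ]
  simpa using h

theorem exists_fixed (y : E) (hy : y ≠ 0) :
    ∃ (n : ℕ) (c : Fin n → k), (∑ i, c i • y ^ p ^ (i : ℕ)) ≠ 0 ∧
      ((∑ i, c i • y ^ p ^ (i : ℕ)) ^ p = 0 ∨
        (∑ i, c i • y ^ p ^ (i : ℕ)) ^ p = ∑ i, c i • y ^ p ^ (i : ℕ)) := by
  classical
  let S : ℕ → Submodule k E := fun n => Submodule.span k (Set.range fun i : Fin n => y ^ p ^ (i : ℕ))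
  have hind : ∀ n, (∀ j < n, y ^ p ^ j ∉ S j) → LinearIndependent k fun i : Fin n => y ^ p ^ (i : ℕ) := by
    intro n
    induction n with
    | zero => intro _; exact linearIndependent_empty_type
    | succ n ih =>
      intro h
      rw [linearIndependent_finSucc']
      refine ⟨?_, ?_⟩
      · exact ih fun j hj => h j (by omega)
      · simpa [Fin.init_def] using h n (by omega)
  have hex : ∃ n, y ^ p ^ n ∈ S n := by
    by_contra hne
    push_neg at hne
    have := (hind (Module.finrank k E + 1) fun j _ => hne j).fintype_card_le_finrank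
    simp at this
  have hn := Nat.find_spec hex
  have hmin : ∀ j < Nat.find hex, y ^ p ^ j ∉ S j := fun j hj => Nat.find_min hex hj
  have hli := hind _ hmin
  obtain ⟨m, hm⟩ : ∃ m, Nat.find hex = m + 1 := by
    refine Nat.exists_eq_succ_of_ne_zero fun h0 => hy ?_
    have := hn
    rw [h0] at this
    simpa [S] using this
  rw [hm] at hn hli
  obtain ⟨c, hc⟩ := Submodule.mem_span_range_iff_exists_fun k |>.1 hn
  rcases eq_or_ne (c 0) 0 with h0 | h0
  · choose r hr using fun i : Fin m => IsAlgClosed.exists_pow_nat_eq (c i.succ) hp.out.pos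
    refine ⟨m + 1, Fin.snoc (fun i => -r i) 1, fun h => ?_, Or.inl ?_⟩
    · have := Fintype.linearIndependent_iff.1 hli _ h (Fin.last m)
      simp at this
    · haveI : ExpChar k p := ExpChar.prime hp.out
      have hneg : ∀ a : k, (-a) ^ p = -(a ^ p) := fun a => by
        have h := add_pow_expChar (-a) a p
        rw [neg_add_cancel, zero_pow hp.out.ne_zero] at h
        exact eq_neg_of_add_eq_zero_left h.symm
      rw [sum_pow_prime_powers p, Fin.sum_univ_castSucc]
      simp only [Fin.snoc_castSucc, Fin.snoc_last, one_pow, one_smul, Fin.val_castSucc, Fin.val_last, hneg, hr]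
      rw [← hc, Fin.sum_univ_succ, h0, zero_smul, zero_add]
      simp
  · let c' : ℕ → k := fun i => if h : i < m + 1 then c ⟨i, h⟩ else 0
    obtain ⟨t, ht0, ht⟩ := exists_root p c' (by simpa [c'] using h0) m
    refine ⟨m + 1, fun i => (zpol p c' i).eval t, fun h => ?_, Or.inr ?_⟩
    · have := Fintype.linearIndependent_iff.1 hli _ h (Fin.last m)
      exact ht0 (ht.symm.trans this)
    · rw [sum_pow_prime_powers p, Fin.sum_univ_castSucc]
      simp only [Fin.val_castSucc, Fin.val_last, ht]
      rw [← hc, Finset.smul_sum, Fin.sum_univ_succ (f := fun i : Fin (m + 1) => t ^ p • c i • y ^ p ^ (i : ℕ)),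
        Fin.sum_univ_succ (f := fun i : Fin (m + 1) => (zpol p c' i).eval t • y ^ p ^ (i : ℕ))]
      have e0 : (zpol p c' 0).eval t = c 0 * t ^ p := by simp [zpol, c']
      have es : ∀ i : Fin m, (zpol p c' ((i : ℕ) + 1)).eval t = (zpol p c' i).eval t ^ p + c i.succ * t ^ p := by
        intro i
        simp [zpol, c', Fin.succ]
      simp only [Fin.val_succ, Fin.val_zero, e0, es, add_smul, smul_smul, Finset.sum_add_distrib, mul_comm (t ^ p)]
      abel

end GrothLib.OrderP
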