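import Groth.Agent.Lib.OrderP.Fixed
import Groth.Prelude.Def_AlphaP
import Groth.Agent.Lib.Dual.AlphaP
import Mathlib.RingTheory.Bialgebra.MonoidAlgebra
import Mathlib.RingTheory.Coalgebra.Convolution
import Mathlib.LinearAlgebra.Lagrange
import Mathlib.Data.Nat.Choose.Sum
import Mathlib.Data.Nat.Choose.Dvd
import Mathlib.Algebra.Field.ZMod
import Mathlib.FieldTheory.Finite.Basic
import Mathlib.Data.Nat.Prime.Factorial

/-!
# Subgroups of order `p` from invariant derivations

A point derivation `Y` with `Y^p = 0`, resp. `Y^p = Y`, gives a map to `α_p`, resp. `μ_p`.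
-/

universe u v

set_option linter.style.haveILetI false

open TensorProduct WithConv

namespace GrothLib.OrderP

variable {k : Type u} [Field k] (p : ℕ) [hp : Fact p.Prime] [CharP k p]
  {A : Type v} [CommRing A] [Bialgebra k A]

/-- point derivations at the unit -/
def IsDer (Y : WithConv (A →ₗ[k] k)) : Prop :=
  ∀ a b : A, Y (a * b) = Coalgebra.counit (R := k) a * Y b + Y a * Coalgebra.counit (R := k) b

variable {p} {Y : WithConv (A →ₗ[k] k)}

omit hp [CharP k p] in
theorem pow_apply_mul (hY : IsDer Y) (n : ℕ) (a b : A) :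
    (Y ^ n) (a * b) = ∑ ij ∈ Finset.antidiagonal n, n.choose ij.1 • ((Y ^ ij.1) a * (Y ^ ij.2) b) := by
  induction n generalizing a b with
  | zero => simp [Bialgebra.counit_mul]
  | succ n ih =>
    let ra := Coalgebra.Repr.arbitrary k a
    let rb := Coalgebra.Repr.arbitrary k b
    have hone : ∀ (i : ℕ) (c : A), (Y ^ i * 1) c = (Y ^ i) c := fun i c => by rw [mul_one]
    have hL : (Y ^ (n + 1)) (a * b) = ∑ u ∈ ra.index, ∑ w ∈ rb.index,
        (Y ^ n) (ra.left u * rb.left w) * Y (ra.right u * rb.right w) := by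
      rw [pow_succ, LinearMap.convMul_apply, Bialgebra.comul_mul, ← ra.eq, ← rb.eq, Finset.sum_mul_sum, map_sum,
        map_sum]
      simp only [map_sum, Algebra.TensorProduct.tmul_mul_tmul, TensorProduct.map_tmul, LinearMap.mul'_apply]
    rw [hL, Finset.sum_antidiagonal_choose_succ_nsmul (fun i j => (Y ^ i) a * (Y ^ j) b) n, ← Finset.sum_add_distrib]
    have hR : ∀ x : ℕ × ℕ, n.choose x.1 • ((Y ^ x.1) a * (Y ^ (x.2 + 1)) b) +
        n.choose x.1 • ((Y ^ (x.1 + 1)) a * (Y ^ x.2) b) = ∑ u ∈ ra.index, ∑ w ∈ rb.index,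
          n.choose x.1 • ((Y ^ x.1) (ra.left u) * (Y ^ x.2) (rb.left w)) *
            (Coalgebra.counit (R := k) (ra.right u) * Y (rb.right w) +
              Y (ra.right u) * Coalgebra.counit (R := k) (rb.right w)) := by
      intro x
      rw [← hone x.1 a, ← hone x.2 b, pow_succ Y x.1, pow_succ Y x.2, ra.convMul_apply, rb.convMul_apply,
        ra.convMul_apply, rb.convMul_apply, Finset.sum_mul_sum, Finset.sum_mul_sum, ← smul_add,
        ← Finset.sum_add_distrib, Finset.smul_sum]
      refine Finset.sum_congr rfl fun u _ => ?_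
      rw [← Finset.sum_add_distrib, Finset.smul_sum]
      refine Finset.sum_congr rfl fun w _ => ?_
      simp only [LinearMap.convOne_apply, Algebra.algebraMap_self, RingHom.id_apply, nsmul_eq_mul]
      ring
    refine Eq.trans (b := ∑ x ∈ Finset.antidiagonal n, ∑ u ∈ ra.index, ∑ w ∈ rb.index,
        n.choose x.1 • ((Y ^ x.1) (ra.left u) * (Y ^ x.2) (rb.left w)) *
          (Coalgebra.counit (R := k) (ra.right u) * Y (rb.right w) +
            Y (ra.right u) * Coalgebra.counit (R := k) (rb.right w))) ?_
      (Finset.sum_congr rfl fun x hx => (hR x).symm.trans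
        (by rw [Nat.choose_symm_of_eq_add (Finset.mem_antidiagonal.1 hx).symm]))
    conv_rhs => rw [Finset.sum_comm]
    refine Finset.sum_congr rfl fun u _ => ?_
    conv_rhs => rw [Finset.sum_comm]
    refine Finset.sum_congr rfl fun w _ => ?_
    rw [ih, hY, Finset.sum_mul]

theorem isDer_pow (hY : IsDer Y) : IsDer (Y ^ p) := by
  intro a b
  have h2 : (0, p) ≠ (p, 0) := by simp [hp.out.ne_zero, Prod.ext_iff]
  rw [pow_apply_mul hY, Finset.sum_eq_add_of_mem (0, p) (p, 0) (by simp) (by simp) h2]
  · simp
  · rintro ⟨i, j⟩ hij ⟨h0, h1⟩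
    rw [Finset.mem_antidiagonal] at hij
    simp only at hij ⊢
    have hi : i ≠ 0 := fun h => h0 (by subst h; simp at hij ⊢; omega)
    have hi' : i < p := by
      refine lt_of_le_of_ne (by omega) fun h => h1 ?_
      subst h; simp; omega
    rw [nsmul_eq_mul, (CharP.cast_eq_zero_iff k p _).2 (Nat.Prime.dvd_choose_self hp.out hi hi'), zero_mul]

omit hp [CharP k p] in
theorem isDer_add {Z : WithConv (A →ₗ[k] k)} (hY : IsDer Y) (hZ : IsDer Z) : IsDer (Y + Z) := fun a b => by
  simp only [WithConv.ofConv_add, LinearMap.add_apply, hY a b, hZ a b]; ring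

omit hp [CharP k p] in
theorem isDer_smul (c : k) (hY : IsDer Y) : IsDer (c • Y) := fun a b => by
  simp only [WithConv.ofConv_smul, LinearMap.smul_apply, smul_eq_mul, hY a b]; ring

omit hp [CharP k p] in
theorem isDer_zero : IsDer (0 : WithConv (A →ₗ[k] k)) := fun a b => by simp

omit hp [CharP k p] in
theorem isDer_sum {ι : Type*} (s : Finset ι) (Z : ι → WithConv (A →ₗ[k] k)) (h : ∀ i ∈ s, IsDer (Z i)) :
    IsDer (∑ i ∈ s, Z i) :=
  Finset.sum_induction Z IsDer (fun _ _ => isDer_add) isDer_zero h

theorem isDer_pow_pow (hY : IsDer Y) : ∀ i, IsDer (Y ^ p ^ i)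
  | 0 => by simpa using hY
  | i + 1 => by rw [pow_succ, pow_mul]; exact isDer_pow (isDer_pow_pow hY i)

omit hp [CharP k p] in
theorem apply_one (hY : IsDer Y) : Y 1 = 0 := by simpa using hY 1 1

theorem exists_special [IsAlgClosed k] [Module.Finite k A] (hY : IsDer Y) (hY0 : Y ≠ 0) :
    ∃ Z : WithConv (A →ₗ[k] k), IsDer Z ∧ Z ≠ 0 ∧ (Z ^ p = 0 ∨ Z ^ p = Z) := by
  haveI : Module.Finite k (WithConv (A →ₗ[k] k)) :=
    Module.Finite.equiv (WithConv.linearEquiv k (A →ₗ[k] k)).symm
  obtain ⟨n, c, hne, hc⟩ := exists_fixed (k := k) p Y hY0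
  exact ⟨_, isDer_sum _ _ fun i _ => isDer_smul (c i) (isDer_pow_pow hY _), hne, hc⟩

theorem sum_antidiagonal_eq_range {M : Type*} [AddCommMonoid M] (F : ℕ → ℕ → M)
    (hF : ∀ i j, p ≤ i + j → F i j = 0) :
    ∑ n ∈ Finset.range p, ∑ ij ∈ Finset.antidiagonal n, F ij.1 ij.2 =
      ∑ i ∈ Finset.range p, ∑ j ∈ Finset.range p, F i j := by
  rw [← Finset.sum_product', Finset.sum_sigma']
  refine Eq.trans ?_ (Finset.sum_filter_of_ne (p := fun x : ℕ × ℕ => x.1 + x.2 < p) fun x _ hx =>
    not_le.1 fun h => hx (hF _ _ h))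
  refine Finset.sum_nbij' (fun x => x.2) (fun x => ⟨x.1 + x.2, x⟩) ?_ ?_ ?_ ?_ (fun _ _ => rfl)
  · intro x hx
    simp only [Finset.mem_sigma, Finset.mem_range, Finset.mem_antidiagonal] at hx
    simp only [Finset.mem_filter, Finset.mem_product, Finset.mem_range]
    omega
  · intro x hx
    simp only [Finset.mem_filter, Finset.mem_product, Finset.mem_range] at hx
    simp only [Finset.mem_sigma, Finset.mem_range, Finset.mem_antidiagonal]
    simp [hx.2]
  · intro x hx
    simp only [Finset.mem_sigma, Finset.mem_range, Finset.mem_antidiagonal] at hx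
    obtain ⟨n, i, j⟩ := x
    simp only at hx ⊢
    rw [hx.2]
  · intro x _; rfl

theorem factorial_ne_zero {n : ℕ} (hn : n < p) : (n.factorial : k) ≠ 0 := fun h => by
  rw [CharP.cast_eq_zero_iff k p, Nat.Prime.dvd_factorial hp.out] at h
  omega

theorem choose_div {n i j : ℕ} (hn : n < p) (hij : i + j = n) :
    (n.choose i : k) / (n.factorial : k) = ((i.factorial : k) * j.factorial)⁻¹ := by
  rw [div_eq_iff (factorial_ne_zero hn), inv_mul_eq_div, eq_div_iff (mul_ne_zero
    (factorial_ne_zero (by omega)) (factorial_ne_zero (by omega)))]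
  rw [← Nat.choose_mul_factorial_mul_factorial (show i ≤ n by omega), show n - i = j by omega]
  push_cast
  ring

/-- `Y^p = 0` gives a map to `α_p`. -/
theorem exists_alphaP (hY : IsDer Y) (hY0 : Y ≠ 0) (hYp : Y ^ p = 0) :
    ∃ f : A →ₐc[k] AlphaP.A p k, Function.Surjective f := by
  set x := AlphaP.x p k
  let L : A →ₗ[k] AlphaP.A p k :=
    ∑ i ∈ Finset.range p, ((i.factorial : k)⁻¹ • (Y ^ i).ofConv).smulRight (x ^ i)
  have hL : ∀ a, L a = ∑ i ∈ Finset.range p, ((i.factorial : k)⁻¹ * (Y ^ i) a) • x ^ i := fun a => by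
    simp [L, LinearMap.sum_apply]
  have hYn : ∀ i, p ≤ i → Y ^ i = 0 := fun i hi => by
    rw [← Nat.add_sub_cancel' hi, pow_add, hYp, zero_mul]
  have hxn : ∀ i, p ≤ i → x ^ i = 0 := fun i hi => by
    rw [← Nat.add_sub_cancel' hi, pow_add, AlphaP.x_pow, zero_mul]
  have hmul : ∀ a b, L (a * b) = L a * L b := by
    intro a b
    rw [hL, hL, hL, Finset.sum_mul_sum, ← sum_antidiagonal_eq_range (p := p)
      (fun i j => ((i.factorial : k)⁻¹ * (Y ^ i) a) • x ^ i * (((j.factorial : k)⁻¹ * (Y ^ j) b) • x ^ j))
      (fun i j h => by rw [smul_mul_smul_comm, ← pow_add, hxn _ h, smul_zero])]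
    refine Finset.sum_congr rfl fun n hn => ?_
    rw [pow_apply_mul hY, Finset.mul_sum, Finset.sum_smul]
    refine Finset.sum_congr rfl fun ij hij => ?_
    rw [Finset.mem_antidiagonal] at hij
    rw [smul_mul_smul_comm, ← pow_add, hij, nsmul_eq_mul, ← mul_assoc, inv_mul_eq_div,
      choose_div (Finset.mem_range.1 hn) hij, mul_inv]
    congr 1
    ring
  have hone : L 1 = 1 := by
    rw [hL, Finset.sum_eq_single 0]
    · simp
    · intro i _ hi
      obtain ⟨i, rfl⟩ := Nat.exists_eq_succ_of_ne_zero hi
      rw [pow_succ, LinearMap.convMul_apply, Bialgebra.comul_one, Algebra.TensorProduct.one_def]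
      simp [apply_one hY]
    · intro h; exact absurd (Finset.mem_range.2 hp.out.pos) h
  let f := AlgHom.ofLinearMap L hone hmul
  refine ⟨BialgHom.ofAlgHom f (AlgHom.ext fun a => ?_) (AlgHom.ext fun a => ?_), ?_⟩
  · change Coalgebra.counit (R := k) (L a) = Coalgebra.counit (R := k) a
    rw [hL, map_sum, Finset.sum_eq_single 0]
    · simp
    · intro i _ hi
      rw [map_smul, Bialgebra.counit_pow, AlphaP.counit_x, zero_pow hi, smul_zero]
    · intro h; exact absurd (Finset.mem_range.2 hp.out.pos) h
  · change Algebra.TensorProduct.map f f (Coalgebra.comul (R := k) a) = Coalgebra.comul (R := k) (L a)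
    have e : Algebra.TensorProduct.map f f (Coalgebra.comul (R := k) a) =
        ∑ i ∈ Finset.range p, ∑ j ∈ Finset.range p,
          (((i.factorial : k) * j.factorial)⁻¹ * (Y ^ (i + j)) a) • ((x ^ i) ⊗ₜ[k] (x ^ j)) := by
      simp only [pow_add, LinearMap.convMul_apply]
      induction Coalgebra.comul (R := k) a using TensorProduct.induction_on with
      | zero => simp
      | add u w hu hw => simp only [map_add, hu, hw, mul_add, add_smul, Finset.sum_add_distrib]
      | tmul b c =>
        rw [Algebra.TensorProduct.map_tmul]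
        change L b ⊗ₜ[k] L c = _
        rw [hL, hL, TensorProduct.sum_tmul]
        refine Finset.sum_congr rfl fun i _ => ?_
        rw [TensorProduct.tmul_sum]
        refine Finset.sum_congr rfl fun j _ => ?_
        rw [TensorProduct.smul_tmul_smul, TensorProduct.map_tmul, LinearMap.mul'_apply, mul_inv]
        congr 1
        ring
    rw [e, hL, map_sum, ← sum_antidiagonal_eq_range (p := p)
      (fun i j => (((i.factorial : k) * j.factorial)⁻¹ * (Y ^ (i + j)) a) • ((x ^ i) ⊗ₜ[k] (x ^ j)))
      (fun i j h => by rw [hYn _ h]; simp)]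
    refine Finset.sum_congr rfl fun n hn => ?_
    rw [map_smul, GrothLib.Dual.alphaP_comul_pow, Finset.Nat.sum_antidiagonal_eq_sum_range_succ_mk, Finset.smul_sum]
    refine Finset.sum_congr rfl fun i hi => ?_
    have hin : i + (n - i) = n := by simp only [Finset.mem_range] at hi; omega
    rw [smul_smul, hin, ← choose_div (Finset.mem_range.1 hn) hin]
    congr 1
    ring
  · obtain ⟨a, ha⟩ : ∃ a, Y a = 1 := by
      obtain ⟨a, ha⟩ : ∃ a, Y a ≠ 0 := by
        by_contra h
        push Not at h
        exact hY0 (WithConv.ext (LinearMap.ext h))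
      exact ⟨(Y a)⁻¹ • a, by rw [map_smul, smul_eq_mul, inv_mul_cancel₀ ha]⟩
    let a' := a - Coalgebra.counit (R := k) a • (1 : A)
    -- `f a' = x + (higher terms)`, so every power of `x` is in the range
    obtain ⟨r, hr⟩ : ∃ r, f a' = x + x ^ 2 * r := by
      refine ⟨∑ i ∈ Finset.Ico 2 p, ((i.factorial : k)⁻¹ * (Y ^ i) a') • x ^ (i - 2), ?_⟩
      change L a' = _
      rw [hL, ← Finset.sum_range_add_sum_Ico _ hp.out.two_le, Finset.mul_sum]
      congr 1
      · simp [Finset.sum_range_succ, a', apply_one hY, ha]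
      · refine Finset.sum_congr rfl fun i hi => ?_
        rw [mul_smul_comm, ← pow_add, Nat.add_sub_cancel' (Finset.mem_Ico.1 hi).1]
    have key : ∀ d j : ℕ, p ≤ j + d → ∀ q : AlphaP.A p k, x ^ j * q ∈ f.range := by
      intro d
      induction d with
      | zero => intro j hj q; rw [hxn j (by omega), zero_mul]; exact zero_mem _
      | succ d ih =>
        intro j hj q
        obtain ⟨c, q', rfl⟩ : ∃ (c : k) (q' : AlphaP.A p k), q = algebraMap k _ c + x * q' := by
          rw [← (AlphaP.basis p k).sum_repr q]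
          refine ⟨(AlphaP.basis p k).repr q ⟨0, hp.out.pos⟩,
            ∑ i ∈ Finset.univ.erase (⟨0, hp.out.pos⟩ : Fin p), (AlphaP.basis p k).repr q i • x ^ ((i : ℕ) - 1), ?_⟩
          rw [← Finset.add_sum_erase _ _ (Finset.mem_univ (⟨0, hp.out.pos⟩ : Fin p)), Finset.mul_sum]
          congr 1
          · rw [AlphaP.basis_apply, pow_zero, Algebra.algebraMap_eq_smul_one]
          · refine Finset.sum_congr rfl fun i hi => ?_
            have : (i : ℕ) ≠ 0 := fun h => (Finset.mem_erase.1 hi).1 (Fin.ext h)
            rw [AlphaP.basis_apply, mul_smul_comm, ← pow_succ', Nat.sub_add_cancel (Nat.pos_of_ne_zero this)]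
        have hfx : f (c • a' ^ j) = c • (x + x ^ 2 * r) ^ j := by rw [map_smul, map_pow, hr]
        obtain ⟨s, hs⟩ : ∃ s, (x + x ^ 2 * r) ^ j = x ^ j + x ^ (j + 1) * s := by
          rw [show x + x ^ 2 * r = x * (1 + x * r) by ring, mul_pow]
          obtain ⟨s, hs⟩ : x ∣ (1 + x * r) ^ j - 1 := by
            simpa using dvd_trans (dvd_mul_right x r) (by simpa using sub_dvd_pow_sub_pow (1 + x * r) 1 j)
          refine ⟨s, ?_⟩
          rw [show (1 + x * r) ^ j = 1 + x * s by rw [← hs]; ring]
          ring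
        have hrw : x ^ j * (algebraMap k _ c + x * q') =
            f (c • a' ^ j) + x ^ (j + 1) * (q' - c • s) := by
          rw [hfx, hs, Algebra.algebraMap_eq_smul_one, mul_add, mul_smul_comm, mul_one, smul_add, mul_sub,
            mul_smul_comm, pow_succ, mul_assoc, mul_assoc]
          abel
        rw [hrw]
        exact add_mem ⟨_, rfl⟩ (ih (j + 1) (by omega) _)
    intro q
    have := key p 0 (by omega) q
    rwa [pow_zero, one_mul] at this

section Mu

open Polynomial

variable (p) in
/-- the indicator of `l` -/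
noncomputable def ind (l : ZMod p) : k[X] := 1 - (X - C (ZMod.castHom (dvd_refl p) k l)) ^ (p - 1)

theorem cast_inj : Function.Injective (ZMod.castHom (dvd_refl p) k) := RingHom.injective _

theorem pow_p_cast (s : ZMod p) : (ZMod.castHom (dvd_refl p) k s) ^ p = ZMod.castHom (dvd_refl p) k s := by
  rw [← map_pow, ZMod.pow_card]

theorem eval_ind (l s : ZMod p) :
    (ind (k := k) p l).eval (ZMod.castHom (dvd_refl p) k s) = if l = s then 1 else 0 := by
  simp only [ind, eval_sub, eval_one, eval_pow, eval_X, eval_C, ← map_sub, ← map_pow]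
  split_ifs with h
  · subst h
    simp [zero_pow (Nat.sub_ne_zero_of_lt hp.out.one_lt)]
  · rw [ZMod.pow_card_sub_one_eq_one (sub_ne_zero.2 (Ne.symm h)), map_one, sub_self]

theorem natDegree_ind_lt (l : ZMod p) : (ind (k := k) p l).natDegree < p := by
  have := hp.out.two_le
  have h : (ind (k := k) p l).natDegree ≤ p - 1 := by
    refine (natDegree_sub_le _ _).trans ?_
    rw [natDegree_one, natDegree_pow, natDegree_X_sub_C, mul_one]
    omega
  omega

theorem sum_ind_pow {n : ℕ} (hn : n < p) :
    ∑ s : ZMod p, (ZMod.castHom (dvd_refl p) k s) ^ n • ind (k := k) p s = X ^ n := by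
  classical
  refine eq_of_degrees_lt_of_eval_index_eq (s := (Finset.univ : Finset (ZMod p)))
    (v := ZMod.castHom (dvd_refl p) k) cast_inj.injOn ?_ ?_ fun t _ => ?_
  · refine lt_of_le_of_lt (degree_sum_le _ _) ((Finset.sup_lt_iff (WithBot.bot_lt_coe _)).2 fun s _ => ?_)
    refine lt_of_le_of_lt ((degree_smul_le _ _).trans degree_le_natDegree) ?_
    rw [Finset.card_univ, ZMod.card]
    exact_mod_cast natDegree_ind_lt s
  · rw [Finset.card_univ, ZMod.card, degree_X_pow]
    exact_mod_cast hn
  · rw [eval_finsetSum, Finset.sum_eq_single t]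
    · rw [eval_smul, eval_ind, if_pos rfl, eval_X_pow, smul_eq_mul, mul_one]
    · intro s _ hs; rw [eval_smul, eval_ind, if_neg hs, smul_zero]
    · simp

/-- `Y^p = Y` gives a map to `μ_p`. -/
theorem exists_mu (hY : IsDer Y) (hY0 : Y ≠ 0) (hYp : Y ^ p = Y) :
    ∃ f : A →ₐc[k] MonoidAlgebra k (Multiplicative (ZMod p)), Function.Surjective f := by
  classical
  let ι := ZMod.castHom (dvd_refl p) k
  let P : ZMod p → WithConv (A →ₗ[k] k) := fun l => aeval Y (ind (k := k) p l)
  have hYP : ∀ s, Y * P s = ι s • P s := by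
    intro s
    haveI : ExpChar k[X] p := ExpChar.prime hp.out
    have h : (X - C (ι s)) * ind (k := k) p s = -((X : k[X]) ^ p - X) := by
      rw [ind, mul_sub, mul_one, ← pow_succ', Nat.sub_add_cancel hp.out.one_lt.le, sub_pow_expChar, ← C_pow,
        pow_p_cast]
      ring
    have h' := congrArg (aeval Y) h
    rw [map_mul, map_sub, aeval_X, aeval_C, map_neg, map_sub, map_pow, aeval_X, hYp, sub_self, neg_zero,
      sub_mul, sub_eq_zero] at h'
    rw [Algebra.smul_def]
    exact h'
  have hqP : ∀ (q : k[X]) (s : ZMod p), aeval Y q * P s = q.eval (ι s) • P s := by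
    intro q s
    induction q using Polynomial.induction_on with
    | C a => rw [aeval_C, eval_C, Algebra.smul_def]
    | add q r hq hr => rw [map_add, add_mul, hq, hr, eval_add, add_smul]
    | monomial n a ih =>
      rw [pow_succ, ← mul_assoc, map_mul, aeval_X, mul_assoc, hYP, mul_smul_comm, ih, smul_smul]
      congr 1
      simp only [eval_mul, eval_X]
      ring
  have hPP : ∀ s t, P s * P t = if s = t then P t else 0 := fun s t => by
    rw [hqP, eval_ind]
    split_ifs <;> simp
  have hspec : ∀ n < p, Y ^ n = ∑ s, ι s ^ n • P s := fun n hn => by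
    have h := (congrArg (aeval Y) (sum_ind_pow (k := k) hn)).symm
    rw [aeval_X_pow, map_sum] at h
    simp only [map_smul] at h
    exact h
  have hmulP : ∀ (m : ZMod p) (a b : A), P m (a * b) = ∑ s, ∑ t, (if s + t = m then P s a * P t b else 0) := by
    intro m a b
    have h1 : ∀ n < p, (Y ^ n) (a * b) = ∑ s, ∑ t, (ι (s + t)) ^ n * (P s a * P t b) := by
      intro n hn
      rw [pow_apply_mul hY]
      have hterm : ∀ ij ∈ Finset.antidiagonal n, n.choose ij.1 • ((Y ^ ij.1) a * (Y ^ ij.2) b) =
          ∑ s, ∑ t, (n.choose ij.1 • (ι s ^ ij.1 * ι t ^ ij.2)) * (P s a * P t b) := by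
        intro ij hij
        have := Finset.mem_antidiagonal.1 hij
        rw [hspec ij.1 (by omega), hspec ij.2 (by omega), WithConv.ofConv_sum, WithConv.ofConv_sum,
          LinearMap.sum_apply, LinearMap.sum_apply, Finset.sum_mul_sum, Finset.smul_sum]
        refine Finset.sum_congr rfl fun s _ => ?_
        rw [Finset.smul_sum]
        refine Finset.sum_congr rfl fun t _ => ?_
        simp only [WithConv.ofConv_smul, LinearMap.smul_apply, smul_eq_mul, nsmul_eq_mul]
        ring
      rw [Finset.sum_congr rfl hterm, Finset.sum_comm]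
      refine Finset.sum_congr rfl fun s _ => ?_
      rw [Finset.sum_comm]
      refine Finset.sum_congr rfl fun t _ => ?_
      rw [map_add, (Commute.all (ι s) (ι t)).add_pow', Finset.sum_mul]
    have h2 : ∀ q : k[X], q.natDegree < p → aeval Y q (a * b) = ∑ s, ∑ t, q.eval (ι (s + t)) * (P s a * P t b) := by
      intro q hq
      rw [aeval_eq_sum_range' hq, WithConv.ofConv_sum, LinearMap.sum_apply,
        Finset.sum_congr rfl fun n hn => by
          rw [WithConv.ofConv_smul, LinearMap.smul_apply, h1 n (Finset.mem_range.1 hn), smul_eq_mul]]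
      simp only [Finset.mul_sum, eval_eq_sum_range' hq, Finset.sum_mul]
      rw [Finset.sum_comm]
      refine Finset.sum_congr rfl fun s _ => ?_
      rw [Finset.sum_comm]
      exact Finset.sum_congr rfl fun t _ => Finset.sum_congr rfl fun n _ => by ring
    rw [h2 _ (natDegree_ind_lt m)]
    refine Finset.sum_congr rfl fun s _ => Finset.sum_congr rfl fun t _ => ?_
    rw [eval_ind]
    simp [eq_comm]
  let L : A →ₗ[k] MonoidAlgebra k (Multiplicative (ZMod p)) :=
    ∑ i : ZMod p, (P i).ofConv.smulRight (MonoidAlgebra.single (Multiplicative.ofAdd i) (1 : k))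
  have hL : ∀ a, L a = ∑ i, MonoidAlgebra.single (Multiplicative.ofAdd i) (P i a) := fun a => by
    simp [L, LinearMap.sum_apply, MonoidAlgebra.smul_single']
  have hmul : ∀ a b, L (a * b) = L a * L b := by
    intro a b
    rw [hL, hL, hL, Finset.sum_mul_sum]
    simp only [MonoidAlgebra.single_mul_single, ← ofAdd_add, hmulP, ← MonoidAlgebra.singleAddHom_apply, map_sum,
      apply_ite, map_zero]
    rw [Finset.sum_comm]
    refine Finset.sum_congr rfl fun s _ => ?_
    rw [Finset.sum_comm]
    refine Finset.sum_congr rfl fun t _ => ?_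
    simp
  have hsumP : ∑ s, P s = 1 := by simpa using (hspec 0 hp.out.pos).symm
  have hP1 : ∀ i, P i 1 = if i = 0 then 1 else 0 := by
    intro i
    have hn : ∀ n, (Y ^ n) (1 : A) = if n = 0 then 1 else 0 := by
      intro n
      cases n with
      | zero => simp
      | succ n =>
        rw [pow_succ, LinearMap.convMul_apply, Bialgebra.comul_one, Algebra.TensorProduct.one_def]
        simp [apply_one hY]
    change aeval Y (ind (k := k) p i) (1 : A) = _
    rw [aeval_eq_sum_range' (natDegree_ind_lt i), WithConv.ofConv_sum, LinearMap.sum_apply,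
      Finset.sum_eq_single 0]
    · have h0 := eval_ind (k := k) i 0
      rw [map_zero] at h0
      rw [WithConv.ofConv_smul, LinearMap.smul_apply, hn, if_pos rfl, smul_eq_mul, mul_one,
        coeff_zero_eq_eval_zero, h0]
    · intro n _ hn0; simp [hn, hn0]
    · intro h; exact absurd (Finset.mem_range.2 hp.out.pos) h
  have hone : L 1 = 1 := by
    rw [hL, Finset.sum_eq_single 0 (fun i _ hi => by simp [hP1, hi]) (by simp), hP1, if_pos rfl]
    rfl
  let f := AlgHom.ofLinearMap L hone hmul
  refine ⟨BialgHom.ofAlgHom f (AlgHom.ext fun a => ?_) (AlgHom.ext fun a => ?_), ?_⟩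
  · change Coalgebra.counit (R := k) (L a) = Coalgebra.counit (R := k) a
    rw [hL, map_sum]
    have := congrArg (fun z : WithConv (A →ₗ[k] k) => z a) hsumP
    simpa [WithConv.ofConv_sum] using this
  · change Algebra.TensorProduct.map f f (Coalgebra.comul (R := k) a) = Coalgebra.comul (R := k) (L a)
    have e : Algebra.TensorProduct.map f f (Coalgebra.comul (R := k) a) =
        ∑ s, ∑ t, (P s * P t) a •
          (MonoidAlgebra.single (Multiplicative.ofAdd s) (1 : k) ⊗ₜ[k] MonoidAlgebra.single (Multiplicative.ofAdd t) (1 : k)) := by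
      simp only [LinearMap.convMul_apply]
      induction Coalgebra.comul (R := k) a using TensorProduct.induction_on with
      | zero => simp
      | add u w hu hw => simp only [map_add, hu, hw, add_smul, Finset.sum_add_distrib]
      | tmul b c =>
        rw [Algebra.TensorProduct.map_tmul]
        change L b ⊗ₜ[k] L c = _
        simp only [hL, TensorProduct.sum_tmul, TensorProduct.tmul_sum, TensorProduct.map_tmul, LinearMap.mul'_apply]
        rw [Finset.sum_comm]
        refine Finset.sum_congr rfl fun s _ => Finset.sum_congr rfl fun t _ => ?_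
        rw [← TensorProduct.smul_tmul_smul, MonoidAlgebra.smul_single', MonoidAlgebra.smul_single', mul_one, mul_one]
    rw [e, hL, map_sum]
    refine Finset.sum_congr rfl fun s _ => ?_
    rw [Finset.sum_eq_single s (fun t _ ht => by rw [hPP, if_neg (Ne.symm ht)]; simp) (by simp), hPP, if_pos rfl,
      MonoidAlgebra.comul_single, CommSemiring.comul_apply, TensorProduct.map_tmul, ← TensorProduct.tmul_smul,
      MonoidAlgebra.smul_single', mul_one]
    rfl
  · have hrange : ∀ (s : ZMod p) (a : A), MonoidAlgebra.single (Multiplicative.ofAdd s) (P s a) ∈ f.range := by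
      intro s a
      refine ⟨TensorProduct.lid k A (TensorProduct.map (P s).ofConv LinearMap.id (Coalgebra.comul (R := k) a)), ?_⟩
      have e : ∀ z : A ⊗[k] A, L (TensorProduct.lid k A (TensorProduct.map (P s).ofConv LinearMap.id z)) =
          ∑ t, MonoidAlgebra.single (Multiplicative.ofAdd t)
            (LinearMap.mul' k k (TensorProduct.map (P s).ofConv (P t).ofConv z)) := by
        intro z
        induction z using TensorProduct.induction_on with
        | zero => simp
        | tmul b c => simp [hL, Finset.smul_sum, MonoidAlgebra.smul_single']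
        | add b c hb hc => simp only [map_add, hb, hc, MonoidAlgebra.single_add, Finset.sum_add_distrib]
      change L _ = _
      rw [e]
      simp only [← LinearMap.convMul_apply, hPP]
      rw [Finset.sum_eq_single s (fun t _ ht => by simp [Ne.symm ht]) (by simp), if_pos rfl]
    obtain ⟨s, hs0, a, ha⟩ : ∃ s : ZMod p, s ≠ 0 ∧ ∃ a, P s a ≠ 0 := by
      by_contra h
      push Not at h
      refine hY0 ?_
      rw [← pow_one Y, hspec 1 hp.out.one_lt, Finset.sum_eq_zero fun s _ => ?_]
      rcases eq_or_ne s 0 with rfl | hs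
      · simp
      · rw [show P s = 0 from WithConv.ext (LinearMap.ext fun a => h s hs a), smul_zero]
    have hg : MonoidAlgebra.single (Multiplicative.ofAdd s) (1 : k) ∈ f.range := by
      have := f.range.smul_mem (hrange s a) (P s a)⁻¹
      rwa [MonoidAlgebra.smul_single', inv_mul_cancel₀ ha] at this
    intro z
    change z ∈ f.range
    induction z using MonoidAlgebra.induction_linear with
    | zero => exact zero_mem _
    | add x y hx hy => exact add_mem hx hy
    | single g r =>
      have h1 : (Multiplicative.ofAdd s) ^ (g.toAdd * s⁻¹).val = g := by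
        rw [← ofAdd_nsmul, nsmul_eq_mul, ZMod.natCast_val, ZMod.cast_id, mul_assoc, inv_mul_cancel₀ hs0, mul_one,
          ofAdd_toAdd]
      have h2 := f.range.smul_mem (pow_mem hg (g.toAdd * s⁻¹).val) r
      rwa [MonoidAlgebra.single_pow, one_pow, h1, MonoidAlgebra.smul_single', mul_one] at h2

end Mu

end GrothLib.OrderP
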